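import Mathlib
import Cfsg.Agent.Lib.Helper1.GNPC.ZJFun
import Cfsg.Agent.Lib.Helper9.ZJ7

set_option autoImplicit false

namespace Cfsg.Agent.Lib.Helper1.GNPC3

open Cfsg Cfsg.Agent.S5306 Cfsg.Agent.Lib.Helper1.TNPC Cfsg.Agent.Lib.Helper1.GNPC
  Cfsg.Agent.Lib.Helper9

section ZEBasic

variable {G : Type*} [Group G] {G' : Type*} [Group G']

def ZE (p : ℕ) (S : Subgroup G) : Subgroup G :=
  TJ p S ⊓ Subgroup.centralizer (TJ p S : Set G)

theorem centerThompsonOf_eq (p : ℕ) (S : Subgroup G) : Cfsg.centerThompsonOf p S = ZE p S := by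
  unfold Cfsg.centerThompsonOf ZE
  rw [thompson_eq]

theorem ZE_le (p : ℕ) (S : Subgroup G) : ZE p S ≤ S := inf_le_left.trans (TJ_le p S)

theorem ZE_comm (p : ℕ) (S : Subgroup G) {x y : G} (hx : x ∈ ZE p S) (hy : y ∈ ZE p S) :
    x * y = y * x :=
  (Subgroup.mem_centralizer_iff.mp hy.2 x hx.1)

theorem maxEA_eq_famQ (p : ℕ) (S : Subgroup G) :
    MaxEA p S = famQ (fun A : Subgroup G => Cfsg.IsElementaryAbelian p A) S := rfl

theorem maxEA_nonempty [Finite G] (p : ℕ) (S : Subgroup G) : (MaxEA p S).Nonempty :=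
  famQ_nonempty (fun A : Subgroup G => Cfsg.IsElementaryAbelian p A)
    (Cfsg.Agent.Lib.Helper5.elemAb_bot p) S

theorem mem_of_mem_maxEA [Finite G] {p : ℕ} {S A : Subgroup G} (hA : A ∈ MaxEA p S) {x : G}
    (hxS : x ∈ S) (hxp : x ^ p = 1) (hxA : x ∈ Subgroup.centralizer (A : Set G)) : x ∈ A := by
  obtain ⟨hAS, hAea, hAmax⟩ := hA
  have hB := Cfsg.Agent.Lib.Helper5.elemAb_adjoin hAea x hxA hxp
  have hBS : Subgroup.closure ((A : Set G) ∪ {x}) ≤ S := by
    rw [Subgroup.closure_le]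
    rintro y (hy | hy)
    · exact hAS hy
    · rw [Set.mem_singleton_iff] at hy; subst hy; exact hxS
  have hcard := hAmax _ hBS hB
  have hAle : A ≤ Subgroup.closure ((A : Set G) ∪ {x}) := by
    intro a ha; exact Subgroup.subset_closure (Or.inl ha)
  have heq := Subgroup.eq_of_le_of_card_ge hAle hcard
  rw [heq]
  exact Subgroup.subset_closure (Or.inr rfl)

theorem ZE_map (p : ℕ) (f : G →* G') {S : Subgroup G} (hf : Set.InjOn f (S : Set G)) :
    ZE p (S.map f) = (ZE p S).map f := by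
  unfold ZE
  rw [TJ_map f hf]
  apply le_antisymm
  · rintro y ⟨⟨x, hx, rfl⟩, hy2⟩
    refine ⟨x, ⟨hx, ?_⟩, rfl⟩
    show x ∈ Subgroup.centralizer (TJ p S : Set G)
    rw [Subgroup.mem_centralizer_iff]
    intro u hu
    have h1 := Subgroup.mem_centralizer_iff.mp hy2 (f u) ⟨u, hu, rfl⟩
    have hxS : x ∈ S := TJ_le p S hx
    have huS : u ∈ S := TJ_le p S hu
    apply hf (S.mul_mem huS hxS) (S.mul_mem hxS huS)
    rw [map_mul, map_mul]
    exact h1
  · rintro _ ⟨x, ⟨hx1, hx2⟩, rfl⟩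
    refine ⟨⟨x, hx1, rfl⟩, ?_⟩
    show f x ∈ Subgroup.centralizer _
    rw [Subgroup.mem_centralizer_iff]
    rintro _ ⟨u, hu, rfl⟩
    rw [← map_mul, ← map_mul, Subgroup.mem_centralizer_iff.mp hx2 u hu]

theorem normalizer_le_normalizer_ZE (p : ℕ) (S : Subgroup G) :
    Subgroup.normalizer (S : Set G) ≤ Subgroup.normalizer (ZE p S : Set G) :=
  (normalizer_le_normalizer_TJ (p := p) S).trans (normalizer_le_normalizer_Z (TJ p S))

theorem ZE_ne_bot [Finite G] {p : ℕ} [hp : Fact p.Prime] {S : Subgroup G} (hS : IsPGroup p S)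
    (hne : S ≠ ⊥) : ZE p S ≠ ⊥ := by
  have hZne := Z_ne_bot hS hne
  set Z := S ⊓ Subgroup.centralizer (S : Set G) with hZ
  have hZp : IsPGroup p Z := hS.to_le inf_le_left
  have hnt : Nontrivial Z := (Subgroup.nontrivial_iff_ne_bot Z).mpr hZne
  obtain ⟨k, hk⟩ := IsPGroup.iff_card.mp hZp
  have hk0 : k ≠ 0 := by
    rintro rfl
    rw [pow_zero] at hk
    have := (Subgroup.card_eq_one (H := Z)).mp hk
    exact hZne this
  have hdvd : p ∣ Nat.card Z := by
    rw [hk]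
    exact dvd_pow_self p hk0
  obtain ⟨z, hz⟩ := exists_prime_orderOf_dvd_card' p hdvd
  have hzZ : (z : G) ∈ Z := z.2
  have hzp : (z : G) ^ p = 1 := by
    have h1 : z ^ p = 1 := by rw [← hz]; exact pow_orderOf_eq_one z
    have h2 := congrArg Subtype.val h1
    rw [Subgroup.coe_pow] at h2
    exact h2
  have hz1 : (z : G) ≠ 1 := by
    intro h
    have h1 : z = 1 := Subtype.ext h
    rw [h1, orderOf_one] at hz
    exact hp.out.one_lt.ne hz
  have hzall : ∀ A ∈ MaxEA p S, (z : G) ∈ A := by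
    intro A hA
    apply mem_of_mem_maxEA hA hzZ.1 hzp
    rw [Subgroup.mem_centralizer_iff]
    intro a ha
    exact Subgroup.mem_centralizer_iff.mp hzZ.2 a (hA.1 ha)
  obtain ⟨A₀, hA₀⟩ := maxEA_nonempty p S
  have hzJ : (z : G) ∈ TJ p S := (le_sSup hA₀ : A₀ ≤ TJ p S) (hzall A₀ hA₀)
  have hzC : (z : G) ∈ Subgroup.centralizer (TJ p S : Set G) := by
    rw [Subgroup.mem_centralizer_iff]
    intro u hu
    exact Subgroup.mem_centralizer_iff.mp hzZ.2 u (TJ_le p S hu)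
  intro hbot
  have : (z : G) ∈ ZE p S := ⟨hzJ, hzC⟩
  rw [hbot, Subgroup.mem_bot] at this
  exact hz1 this

end ZEBasic

end Cfsg.Agent.Lib.Helper1.GNPC3
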