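import Mathlib
import Cfsg.Agent.Lib.Helper1.GNPC3.ZEBasic

set_option autoImplicit false

namespace Cfsg.Agent.Lib.Helper1.GNPC3

open Cfsg Cfsg.Agent.S5306 Cfsg.Agent.Lib.Helper1.TNPC Cfsg.Agent.Lib.Helper1.GNPC
  Cfsg.Agent.Lib.Helper9

open scoped Pointwise commutatorElement

universe u

section ZECfg

variable {G : Type u} [Group G] [Finite G] {p : ℕ} [hp : Fact p.Prime]
  {P : Sylow p G} {H : Subgroup G} [hHn : H.Normal] {Kb : Subgroup (G ⧸ H)}

theorem cfg_normal_dichotomy (c : FinalCfg p G P H Kb) (N : Subgroup G) [hNn : N.Normal] :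
    N ≤ H ∨ ∀ g : G, (orderOf g).Coprime p → g ∈ N := by
  set K := Kb.comap (QuotientGroup.mk' H) with hK
  haveI hKn : K.Normal := c.k.normal
  by_cases hcase : K ≤ N ⊔ H
  · right
    have hGp : IsPGroup p (G ⧸ N) := by
      intro xb
      obtain ⟨g, rfl⟩ := QuotientGroup.mk_surjective xb
      obtain ⟨x, hx, u, hu, rfl⟩ := c.k.decomp g
      have hx' := hcase hx
      rw [← SetLike.mem_coe, Subgroup.mul_normal] at hx'
      obtain ⟨c₀, hc₀, h, hh, rfl⟩ := hx'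
      obtain ⟨j, hj⟩ := P.isPGroup' ⟨h * u, mul_mem (c.hHP hh) hu⟩
      refine ⟨j, ?_⟩
      have e : (QuotientGroup.mk (c₀ * h * u) : G ⧸ N) = QuotientGroup.mk (h * u) := by
        rw [mul_assoc, QuotientGroup.mk_mul, (QuotientGroup.eq_one_iff c₀).mpr hc₀, one_mul]
      rw [e, ← QuotientGroup.mk_pow]
      have h1 := congrArg Subtype.val hj
      rw [Subgroup.coe_pow] at h1
      have h2 : (h * u) ^ (p ^ j) = 1 := h1
      rw [h2]
      rfl
    intro g hg
    obtain ⟨j, hj⟩ := hGp (QuotientGroup.mk g)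
    have h1 : (QuotientGroup.mk g : G ⧸ N) ^ orderOf g = 1 := by
      rw [← QuotientGroup.mk_pow, pow_orderOf_eq_one]
      rfl
    have hcop : Nat.Coprime (p ^ j) (orderOf g) := Nat.Coprime.pow_left j hg.symm
    have h2 := (pow_eq_one_iff_of_coprime hcop).mp ⟨hj, h1⟩
    exact (QuotientGroup.eq_one_iff g).mp h2
  · left
    have hK₁ : (N ⊔ H) ⊓ K = H := by
      apply c.f2 _ (le_inf le_sup_right c.k.H_le) inf_le_right
      · have : ((N ⊔ H) ⊓ K).Normal := inferInstance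
        rw [Subgroup.normalizer_eq_top_iff.mpr this]
        exact le_top
      · intro h
        apply hcase
        have h' : K ≤ (N ⊔ H) ⊓ K := le_of_eq h.symm
        exact h'.trans inf_le_left
    have hNK : N ⊓ K ≤ H := by
      intro g hg
      rw [← hK₁]
      exact ⟨(le_sup_left : N ≤ N ⊔ H) hg.1, hg.2⟩
    obtain ⟨j, hj⟩ := c.k.index_eq
    have hNp : IsPGroup p N := by
      rintro ⟨x, hx⟩
      have h1 : x ^ (p ^ j) ∈ K := by
        rw [← QuotientGroup.eq_one_iff, QuotientGroup.mk_pow, ← hj, Subgroup.index_eq_card]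
        exact pow_card_eq_one'
      have h2 : x ^ (p ^ j) ∈ H := hNK ⟨N.pow_mem hx _, h1⟩
      obtain ⟨i, hi⟩ := c.hHp ⟨x ^ (p ^ j), h2⟩
      have h3 := congrArg Subtype.val hi
      rw [Subgroup.coe_pow] at h3
      have h4 : (x ^ (p ^ j)) ^ (p ^ i) = 1 := h3
      refine ⟨j + i, ?_⟩
      apply Subtype.ext
      rw [Subgroup.coe_pow]
      show x ^ (p ^ (j + i)) = 1
      rw [pow_add, pow_mul]
      exact h4
    exact c.npl N hNp

theorem cfg_quad_mem_H (c : FinalCfg p G P H Kb) (hp2 : p ≠ 2) (V : Subgroup G) [V.Normal]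
    (hV : IsPGroup p V) (hCV : Subgroup.centralizer (V : Set G) ≤ H) (a : G)
    (ha : a ∈ (P : Subgroup G))
    (hq : ⁅⁅V, Subgroup.zpowers a⁆, Subgroup.zpowers a⁆ = ⊥) : a ∈ H := by
  have hs := c.stable hp2 V hV a ha hq
  have hCn : (Subgroup.centralizer (V : Set G)).Normal := Subgroup.normal_centralizer
  have hKn : ((Cfsg.pCore p (G ⧸ Subgroup.centralizer (V : Set G))).comap
      (QuotientGroup.mk' (Subgroup.centralizer (V : Set G)))).Normal :=
    (Cfsg.Agent.Lib.Helper1.pCore_normal p).comap _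
  have hKp : IsPGroup p ((Cfsg.pCore p (G ⧸ Subgroup.centralizer (V : Set G))).comap
      (QuotientGroup.mk' (Subgroup.centralizer (V : Set G)))) := by
    apply IsPGroup.comap_of_ker_isPGroup (Cfsg.Agent.Lib.Helper1.pCore_isPGroup p)
    rw [QuotientGroup.ker_mk']
    exact c.hHp.to_le hCV
  exact c.npl _ hKp hs

theorem cfg_abelian_le_H (c : FinalCfg p G P H Kb) (hp2 : p ≠ 2) (V : Subgroup G) [V.Normal]
    (hV : IsPGroup p V) (hCV : Subgroup.centralizer (V : Set G) ≤ H) (A : Subgroup G)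
    (hAP : A ≤ (P : Subgroup G)) (hAc : ∀ x ∈ A, ∀ y ∈ A, x * y = y * x)
    (hVA : V ≤ Subgroup.normalizer (A : Set G)) : A ≤ H := by
  intro a ha
  apply cfg_quad_mem_H c hp2 V hV hCV a (hAP ha)
  have hza : Subgroup.zpowers a ≤ A := Subgroup.zpowers_le.mpr ha
  have h1 : ⁅V, Subgroup.zpowers a⁆ ≤ A := by
    rw [Subgroup.commutator_le]
    intro b hb x hx
    have hbN := hVA hb
    rw [Subgroup.mem_normalizer_iff] at hbN
    have h2 : b * x * b⁻¹ ∈ A := (hbN x).mp (hza hx)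
    rw [commutatorElement_def]
    exact A.mul_mem h2 (A.inv_mem (hza hx))
  rw [eq_bot_iff]
  calc ⁅⁅V, Subgroup.zpowers a⁆, Subgroup.zpowers a⁆ ≤ ⁅A, A⁆ := Subgroup.commutator_mono h1 hza
    _ = ⊥ := by
      rw [Subgroup.commutator_eq_bot_iff_le_centralizer]
      intro x hx
      rw [Subgroup.mem_centralizer_iff]
      intro y hy
      exact hAc y hy x hx

theorem cfg_eq_top_of_pprime (c : FinalCfg p G P H Kb) (M : Subgroup G)
    (hPM : (P : Subgroup G) ≤ M) (hM : ∀ g : G, (orderOf g).Coprime p → g ∈ M) : M = ⊤ := by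
  rw [eq_top_iff]
  intro g _
  obtain ⟨x, hxK, u, hu, rfl⟩ := c.k.decomp g
  refine M.mul_mem ?_ (hPM hu)
  have hx0 : orderOf x ≠ 0 := (orderOf_pos _).ne'
  obtain ⟨e, m, hm, hem⟩ := Nat.exists_eq_pow_mul_and_not_dvd hx0 p hp.out.ne_one
  have hcopm : Nat.Coprime m p := (hp.out.coprime_iff_not_dvd.mpr hm).symm
  have h1 : x ^ (p ^ e) ∈ M := by
    apply hM
    have h2 : orderOf (x ^ (p ^ e)) = m := by
      rw [orderOf_pow_of_dvd (pow_ne_zero e hp.out.ne_zero) ⟨m, hem⟩, hem,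
        Nat.mul_div_cancel_left _ (pow_pos hp.out.pos e)]
    rw [h2]
    exact hcopm
  have h2 : x ^ m ∈ M := by
    apply hPM
    apply c.hHP
    have h3 : (x ^ m) ^ Nat.card Kb ∈ H := c.pow_card_mem (x ^ m) (Subgroup.pow_mem _ hxK _)
    have h4 : (x ^ m) ^ (p ^ e) = 1 := by
      rw [← pow_mul, mul_comm, ← hem, pow_orderOf_eq_one]
    have hcop : Nat.Coprime (p ^ e) (Nat.card Kb) := Nat.Coprime.pow_left e c.k.hcop.symm
    rw [← QuotientGroup.eq_one_iff] at h3 ⊢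
    rw [QuotientGroup.mk_pow] at h3
    have h5 : (QuotientGroup.mk (x ^ m) : G ⧸ H) ^ (p ^ e) = 1 := by
      rw [← QuotientGroup.mk_pow, h4]
      rfl
    exact (pow_eq_one_iff_of_coprime hcop).mp ⟨h5, h3⟩
  have hcop2 : Nat.Coprime (p ^ e) m := Nat.Coprime.pow_left e hcopm.symm
  have hb := Nat.gcd_eq_gcd_ab (p ^ e) m
  rw [hcop2.gcd_eq_one] at hb
  have hx : x = (x ^ (p ^ e)) ^ (Nat.gcdA (p ^ e) m) * (x ^ m) ^ (Nat.gcdB (p ^ e) m) := by
    rw [← zpow_natCast, ← zpow_natCast x m, ← zpow_mul, ← zpow_mul, ← zpow_add, ← hb]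
    simp
  rw [hx]
  exact M.mul_mem (M.zpow_mem h1 _) (M.zpow_mem h2 _)

end ZECfg

end Cfsg.Agent.Lib.Helper1.GNPC3
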