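import Mathlib
import Cfsg.Agent.Lib.Helper1.GNPC3.ZECfg
import Cfsg.Agent.Lib.Helper1.Class2
import Cfsg.Agent.Lib.Helper1.Frat

set_option autoImplicit false

namespace Cfsg.Agent.Lib.Helper1.GNPC3

open Cfsg Cfsg.Agent.S5306 Cfsg.Agent.Lib.Helper1.TNPC Cfsg.Agent.Lib.Helper1.GNPC
  Cfsg.Agent.Lib.Helper9

open scoped Pointwise commutatorElement

universe u

section Abs

variable {Γ : Type*} [Group Γ]

theorem class_two_pow_eq {p : ℕ} (hp : p.Prime) (hp2 : p ≠ 2)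
    (hc : commutator Γ ≤ Subgroup.center Γ) {x y : Γ} (h : x ^ p = y ^ p) :
    (y * x⁻¹) ^ p = 1 := by
  have hcc : ⁅x⁻¹, y⁆ ∈ Subgroup.center Γ := hc (commElem_mem_commutator x⁻¹ y)
  rw [mul_pow_of_central hcc, ← h]
  have h1 : ⁅x⁻¹, y⁆ ^ p = 1 := by
    rw [← commElem_pow_right_of_central hcc, ← h, commutatorElement_eq_one_iff_mul_comm]
    have : Commute x⁻¹ (x ^ p) := ((Commute.refl x).inv_left).pow_right p
    exact this
  have hodd : Odd p := hp.odd_of_ne_two hp2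
  obtain ⟨k, hk⟩ := hodd
  have h2 : p.choose 2 = p * k := by
    rw [Nat.choose_two_right, hk]
    have : (2 * k + 1) * (2 * k + 1 - 1) = 2 * ((2 * k + 1) * k) := by
      rw [Nat.add_sub_cancel]; ring
    rw [this, Nat.mul_div_cancel_left _ (by norm_num : 0 < 2)]
  rw [h2, pow_mul, h1, one_pow, one_mul, inv_pow, mul_inv_cancel]

theorem orderOf_conj_inv (x g : Γ) : orderOf (x⁻¹ * g * x) = orderOf g := by
  have h := orderOf_injective (MulAut.conj x⁻¹).toMonoidHom (MulAut.conj x⁻¹).injective g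
  simpa using h

theorem subtype_class_two (B : Subgroup Γ)
    (hBc : ∀ b ∈ B, ∀ c ∈ ⁅B, B⁆, b * c = c * b) : commutator ↥B ≤ Subgroup.center ↥B := by
  intro x hx
  rw [Subgroup.mem_center_iff]
  intro y
  apply Subtype.ext
  rw [Subgroup.coe_mul, Subgroup.coe_mul]
  apply hBc _ y.2
  rw [← Subgroup.map_subtype_commutator]
  exact ⟨x, hx, rfl⟩

end Abs

section ZEInd

variable {G : Type u} [Group G] [Finite G] {p : ℕ} [hp : Fact p.Prime]
  {P : Sylow p G} {H : Subgroup G} [hHn : H.Normal] {Kb : Subgroup (G ⧸ H)}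

theorem ze_le_H (c : FinalCfg p G P H Kb) (hp2 : p ≠ 2) : ZE p (P : Subgroup G) ≤ H := by
  apply cfg_abelian_le_H c hp2 H c.hHp c.cent _ (ZE_le p _)
  · intro x hx y hy
    exact ZE_comm p _ hx hy
  · exact c.hHP.trans (Subgroup.le_normalizer.trans (normalizer_le_normalizer_ZE p _))

theorem TJ_normal_of_normal (p : ℕ) (N : Subgroup G) [hN : N.Normal] : (TJ p N).Normal := by
  rw [← Subgroup.normalizer_eq_top_iff, eq_top_iff]
  have h1 : Subgroup.normalizer (N : Set G) = ⊤ := Subgroup.normalizer_eq_top_iff.mpr hN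
  rw [← h1]
  exact normalizer_le_normalizer_TJ N

theorem pprime_centralizes (c : FinalCfg p G P H Kb)
    (hJH : ¬ TJ p (P : Subgroup G) ≤ H) (N₁ : Subgroup G) [N₁.Normal]
    (hN₁ : N₁ ≤ ZE p (P : Subgroup G)) (g : G) (hg : (orderOf g).Coprime p) :
    g ∈ Subgroup.centralizer (N₁ : Set G) := by
  haveI hCn : (Subgroup.centralizer (N₁ : Set G)).Normal := Subgroup.normal_centralizer
  rcases cfg_normal_dichotomy c (Subgroup.centralizer (N₁ : Set G)) with h | h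
  · exfalso
    apply hJH
    refine le_trans ?_ h
    intro u hu
    rw [Subgroup.mem_centralizer_iff]
    intro n hn
    have := Subgroup.mem_centralizer_iff.mp (hN₁ hn).2 u hu
    exact this.symm
  · exact h g hg

set_option maxHeartbeats 1600000 in
theorem ze_inf_normal (c : FinalCfg p G P H Kb) (hp2 : p ≠ 2)
    (hJH : ¬ TJ p (P : Subgroup G) ≤ H) (Z : Subgroup G) (hZ : Z = ZE p (P : Subgroup G)) :
    ∀ (n : ℕ) (B : Subgroup G), B.Normal → IsPGroup p B → Nat.card B = n → (Z ⊓ B).Normal := by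
  intro n
  induction n using Nat.strong_induction_on with
  | _ n ih =>
  intro B hBn hBp hBcard
  haveI := hBn
  have hBH : B ≤ H := c.npl B hBp
  have hBP : B ≤ (P : Subgroup G) := hBH.trans c.hHP
  have hZP : Z ≤ (P : Subgroup G) := by rw [hZ]; exact ZE_le p _
  have hZH : Z ≤ H := by rw [hZ]; exact ze_le_H c hp2
  have hPZ : (P : Subgroup G) ≤ Subgroup.normalizer (Z : Set G) := by
    rw [hZ]
    exact Subgroup.le_normalizer.trans (normalizer_le_normalizer_ZE p _)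
  have hZcomm : ∀ x ∈ Z, ∀ y ∈ Z, x * y = y * x := by
    intro x hx y hy
    rw [hZ] at hx hy
    exact ZE_comm p _ hx hy
  have hZJ : Z ≤ Subgroup.centralizer (TJ p (P : Subgroup G) : Set G) := by
    rw [hZ]; exact inf_le_right
  have hPZ₁ : (P : Subgroup G) ≤ Subgroup.normalizer ((Z ⊓ B : Subgroup G) : Set G) := by
    intro g hg
    apply mem_normalizer_inf (hPZ hg)
    rw [normal_normalizer_eq_top B]; trivial
  have hB₁B : Subgroup.normalClosure ((Z ⊓ B : Subgroup G) : Set G) ≤ B :=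
    Subgroup.normalClosure_le_normal (by exact_mod_cast (inf_le_right : Z ⊓ B ≤ B))
  have hZ₁B₁ : Z ⊓ B ≤ Subgroup.normalClosure ((Z ⊓ B : Subgroup G) : Set G) :=
    Subgroup.le_normalClosure
  by_cases hlt : Nat.card (Subgroup.normalClosure ((Z ⊓ B : Subgroup G) : Set G)) < Nat.card B
  · have h1 := ih _ (hBcard ▸ hlt) _ Subgroup.normalClosure_normal (hBp.to_le hB₁B) rfl
    have heq : Z ⊓ Subgroup.normalClosure ((Z ⊓ B : Subgroup G) : Set G) = Z ⊓ B :=
      le_antisymm (inf_le_inf_left _ hB₁B) (le_inf inf_le_left hZ₁B₁)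
    rw [heq] at h1; exact h1
  have hB₁eq : Subgroup.normalClosure ((Z ⊓ B : Subgroup G) : Set G) = B :=
    Subgroup.eq_of_le_of_card_ge hB₁B (not_lt.mp hlt)
  by_cases hbot : B = ⊥
  · have h1 : Z ⊓ B = ⊥ := by rw [hbot]; exact inf_bot_eq _
    rw [h1]; exact Subgroup.normal_bot
  have hB'lt : ⁅B, B⁆ < B := commutator_lt_of_isPGroup hBp hbot
  have hB'n : (⁅B, B⁆).Normal := Subgroup.commutator_normal B B
  have hB'card : Nat.card ↥⁅B, B⁆ < n := hBcard ▸ Cfsg.Agent.Lib.Helper9.card_lt_of_lt' hB'lt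
  have hN : (Z ⊓ ⁅B, B⁆).Normal := ih _ hB'card ⁅B, B⁆ hB'n (hBp.to_le hB'lt.le) rfl
  have h4a : ⁅Z ⊓ B, B⁆ ≤ Z ⊓ ⁅B, B⁆ := by
    rw [Subgroup.commutator_le]
    intro z hz b hb
    refine Subgroup.mem_inf.mpr ⟨?_, Subgroup.commutator_mem_commutator hz.2 hb⟩
    have hbN := hPZ (hBP hb)
    rw [Subgroup.mem_normalizer_iff] at hbN
    have h1 : b * z⁻¹ * b⁻¹ ∈ Z := (hbN z⁻¹).mp (Z.inv_mem hz.1)
    have e : ⁅z, b⁆ = z * (b * z⁻¹ * b⁻¹) := by rw [commutatorElement_def]; group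
    rw [e]; exact Subgroup.mul_mem _ hz.1 h1
  have h4b : ⁅B, B⁆ ≤ Z ⊓ ⁅B, B⁆ := by
    have h1 := commutator_normalClosure_le h4a
    rw [hB₁eq] at h1
    exact h1
  have hB'Z : ⁅B, B⁆ ≤ Z := h4b.trans inf_le_left
  have h5a : ⁅Z ⊓ B, ⁅B, B⁆⁆ ≤ ⊥ := by
    rw [Subgroup.commutator_le]
    intro z hz c hc
    rw [Subgroup.mem_bot, commutatorElement_eq_one_iff_mul_comm]
    exact hZcomm z hz.1 c (hB'Z hc)
  have h5b : ⁅B, ⁅B, B⁆⁆ ≤ ⊥ := by
    have h1 := commutator_normalClosure_le h5a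
    rw [hB₁eq] at h1
    exact h1
  have hcl : ⁅⁅B, B⁆, B⁆ = ⊥ := by
    rw [Subgroup.commutator_comm]; exact le_bot_iff.mp h5b
  have hBc : ∀ b ∈ B, ∀ c ∈ ⁅B, B⁆, b * c = c * b := by
    intro b hb c hc
    have h1 : ⁅b, c⁆ ∈ ⁅B, ⁅B, B⁆⁆ := Subgroup.commutator_mem_commutator hb hc
    have h2 := h5b h1
    rw [Subgroup.mem_bot, commutatorElement_eq_one_iff_mul_comm] at h2
    exact h2
  have hcB : commutator ↥B ≤ Subgroup.center ↥B := subtype_class_two B hBc
  have hBpT : IsPGroup p ↥B := hBp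
  have hΦn : ((frattini ↥B).map B.subtype).Normal := inferInstance
  have hΦB : (frattini ↥B).map B.subtype ≤ B := Subgroup.map_subtype_le _
  have hΦne : (frattini ↥B).map B.subtype ≠ B := by
    intro heq
    have h1 : (frattini ↥B).map B.subtype = (⊤ : Subgroup ↥B).map B.subtype := by
      rw [heq]; ext x; simp
    have h2 : frattini ↥B = ⊤ := Subgroup.map_injective B.subtype_injective h1
    have h3 : (⊥ : Subgroup ↥B) = ⊤ := by
      apply frattini_nongenerating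
      rw [h2]; exact bot_sup_eq _
    apply hbot
    rw [eq_bot_iff]
    intro b hb
    have h4 : (⟨b, hb⟩ : ↥B) ∈ (⊥ : Subgroup ↥B) := by rw [h3]; trivial
    rw [Subgroup.mem_bot] at h4
    rw [Subgroup.mem_bot]
    exact congrArg Subtype.val h4
  have hΦcard : Nat.card ↥((frattini ↥B).map B.subtype) < n :=
    hBcard ▸ Cfsg.Agent.Lib.Helper9.card_lt_of_lt' (lt_of_le_of_ne hΦB hΦne)
  have hΦN : (Z ⊓ (frattini ↥B).map B.subtype).Normal :=
    ih _ hΦcard _ hΦn (hBp.to_le hΦB) rfl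
  have hpowΦ : ∀ b ∈ B, b ^ p ∈ (frattini ↥B).map B.subtype := by
    intro b hb
    have h1 := pgroup_pow_mem_frattini hBpT ⟨b, hb⟩
    exact ⟨_, h1, by simp⟩
  have hconjpow : ∀ z ∈ Z ⊓ B, ∀ g : G, (orderOf g).Coprime p → g * z ^ p * g⁻¹ = z ^ p := by
    intro z hz g hg
    have h1 : z ^ p ∈ Z ⊓ (frattini ↥B).map B.subtype := ⟨Z.pow_mem hz.1 p, hpowΦ z hz.2⟩
    have := hΦN
    have h2 := pprime_centralizes c hJH (Z ⊓ (frattini ↥B).map B.subtype)
      (by rw [← hZ]; exact inf_le_left) g hg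
    have h3 := Subgroup.mem_centralizer_iff.mp h2 _ h1
    rw [← h3]; group
  let D : Subgroup G :=
    { carrier := {b | b ∈ B ∧ b ^ p = 1}
      mul_mem' := by
        rintro a b ⟨ha, hap⟩ ⟨hb, hbp⟩
        refine ⟨B.mul_mem ha hb, ?_⟩
        have h1 := mul_pow_prime_eq_one_of_class_two hp.out hp2 hcB
          (x := (⟨a, ha⟩ : ↥B)) (y := ⟨b, hb⟩) (Subtype.ext hap) (Subtype.ext hbp)
        have h2 := congrArg Subtype.val h1
        simpa using h2
      one_mem' := ⟨B.one_mem, one_pow p⟩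
      inv_mem' := by
        rintro a ⟨ha, hap⟩
        exact ⟨B.inv_mem ha, by rw [inv_pow, hap, inv_one]⟩ }
  have hDmem : ∀ b : G, b ∈ D ↔ b ∈ B ∧ b ^ p = 1 := fun b => Iff.rfl
  have hDB : D ≤ B := fun b hb => ((hDmem b).mp hb).1
  have hDn : D.Normal := by
    constructor
    intro b hb g
    rw [hDmem] at hb ⊢
    exact ⟨hBn.conj_mem b hb.1 g, by rw [conj_pow, hb.2]; group⟩
  have hDp : IsPGroup p D := hBp.to_le hDB
  have hDP : D ≤ (P : Subgroup G) := hDB.trans hBP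
  have hstepZ : ∀ z ∈ Z ⊓ B, ∀ g : G, (orderOf g).Coprime p → g * z * g⁻¹ * z⁻¹ ∈ D := by
    intro z hz g hg
    have hw : g * z * g⁻¹ ∈ B := hBn.conj_mem z hz.2 g
    rw [hDmem]
    refine ⟨B.mul_mem hw (B.inv_mem hz.2), ?_⟩
    have h1 : (⟨z, hz.2⟩ : ↥B) ^ p = (⟨g * z * g⁻¹, hw⟩ : ↥B) ^ p := by
      apply Subtype.ext
      rw [Subgroup.coe_pow, Subgroup.coe_pow]
      show z ^ p = (g * z * g⁻¹) ^ p
      rw [conj_pow, hconjpow z hz g hg]
    have h2 := class_two_pow_eq hp.out hp2 hcB h1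
    have h3 := congrArg Subtype.val h2
    simpa using h3
  have hstepB : ∀ b ∈ Subgroup.normalClosure ((Z ⊓ B : Subgroup G) : Set G), ∀ g : G,
      (orderOf g).Coprime p → g * b * g⁻¹ * b⁻¹ ∈ D := by
    intro b hb
    unfold Subgroup.normalClosure at hb
    induction hb using Subgroup.closure_induction with
    | mem b hb =>
      intro g hg
      obtain ⟨z, hz, hzb⟩ := Group.mem_conjugatesOfSet_iff.mp hb
      obtain ⟨x, hx⟩ := isConj_iff.mp hzb
      subst hx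
      have hg' : (orderOf (x⁻¹ * g * x)).Coprime p := by rw [orderOf_conj_inv]; exact hg
      have h1 := hstepZ z hz (x⁻¹ * g * x) hg'
      have e : g * (x * z * x⁻¹) * g⁻¹ * (x * z * x⁻¹)⁻¹ =
          x * ((x⁻¹ * g * x) * z * (x⁻¹ * g * x)⁻¹ * z⁻¹) * x⁻¹ := by group
      rw [e]
      exact hDn.conj_mem _ h1 x
    | one =>
      intro g _
      have e : g * 1 * g⁻¹ * (1 : G)⁻¹ = 1 := by group
      rw [e]; exact D.one_mem
    | mul a b _ _ ha hb =>
      intro g hg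
      have e : g * (a * b) * g⁻¹ * (a * b)⁻¹ =
          (g * a * g⁻¹ * a⁻¹) * (a * (g * b * g⁻¹ * b⁻¹) * a⁻¹) := by group
      rw [e]
      exact D.mul_mem (ha g hg) (hDn.conj_mem _ (hb g hg) a)
    | inv a _ ha =>
      intro g hg
      have e : g * a⁻¹ * g⁻¹ * a⁻¹⁻¹ = a⁻¹ * (g * a * g⁻¹ * a⁻¹)⁻¹ * a⁻¹⁻¹ := by group
      rw [e]
      exact hDn.conj_mem _ (D.inv_mem (ha g hg)) a⁻¹
  rw [hB₁eq] at hstepB
  have hCDn : (Subgroup.centralizer (D : Set G)).Normal := Subgroup.normal_centralizer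
  rcases cfg_normal_dichotomy c (Subgroup.centralizer (D : Set G)) with hCD | hCD
  swap
  · have hcent : ∀ g : G, (orderOf g).Coprime p → ∀ b ∈ B, g * b * g⁻¹ = b := by
      intro g hg b hb
      have hd := hstepB b hb g hg
      have hgd := Subgroup.mem_centralizer_iff.mp (hCD g hg) _ hd
      have hdp : (g * b * g⁻¹ * b⁻¹) ^ (p ^ 1) = 1 := by
        rw [pow_one]; exact ((hDmem _).mp hd).2
      have h1 := eq_one_of_coprime_conj g b (g * b * g⁻¹ * b⁻¹) (orderOf g) hg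
        (pow_orderOf_eq_one g) (by group) hgd.symm 1 hdp
      have h2 : g * b * g⁻¹ = (g * b * g⁻¹ * b⁻¹) * b := by group
      rw [h2, h1, one_mul]
    rw [← Subgroup.normalizer_eq_top_iff]
    apply cfg_eq_top_of_pprime c _ hPZ₁
    intro g hg
    rw [Subgroup.mem_normalizer_iff]
    intro x
    constructor
    · intro hx
      rw [hcent g hg x hx.2]; exact hx
    · intro hx
      have hxB : x ∈ B := by
        have := hBn.conj_mem _ hx.2 g⁻¹
        convert this using 1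
        group
      rw [hcent g hg x hxB] at hx; exact hx
  have hDA : ∀ A ∈ MaxEA p (P : Subgroup G), ⁅D, D⁆ ≤ A := by
    intro A hA
    rw [Subgroup.commutator_le]
    intro d hd e he
    have hdB := hDB hd
    have heB := hDB he
    have hmemB' : ⁅d, e⁆ ∈ ⁅B, B⁆ := Subgroup.commutator_mem_commutator hdB heB
    have hmemZ : ⁅d, e⁆ ∈ Z := hB'Z hmemB'
    apply mem_of_mem_maxEA hA (hZP hmemZ)
    · have hcc : ⁅(⟨d, hdB⟩ : ↥B), (⟨e, heB⟩ : ↥B)⁆ ∈ Subgroup.center ↥B :=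
        hcB (commElem_mem_commutator _ _)
      have h1 := commElem_pow_left_of_central hcc p
      have hdp : (⟨d, hdB⟩ : ↥B) ^ p = 1 := Subtype.ext ((hDmem d).mp hd).2
      rw [hdp] at h1
      have h2 : ⁅(1 : ↥B), (⟨e, heB⟩ : ↥B)⁆ = 1 := by simp
      rw [h2] at h1
      have h3 := congrArg Subtype.val h1.symm
      have e0 : ((⁅(⟨d, hdB⟩ : ↥B), (⟨e, heB⟩ : ↥B)⁆ : ↥B) : G) = ⁅d, e⁆ := rfl
      rw [Subgroup.coe_pow, e0] at h3
      exact h3
    · have h1 := hZJ hmemZ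
      rw [Subgroup.mem_centralizer_iff] at h1 ⊢
      intro a ha
      exact h1 a ((le_sSup hA : A ≤ TJ p (P : Subgroup G)) ha)
  have hDcl : ⁅⁅D, D⁆, D⁆ = ⊥ := by
    rw [eq_bot_iff, ← hcl]
    exact Subgroup.commutator_mono (Subgroup.commutator_mono hDB hDB) hDB
  have hquad : ∀ A ∈ MaxEA p (P : Subgroup G), D ≤ Subgroup.normalizer (A : Set G) → A ≤ H := by
    intro A hA hDNA
    apply cfg_abelian_le_H c hp2 D hDp hCD A hA.1 _ hDNA
    intro x hx y hy
    haveI := hA.2.1.1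
    exact setLike_mul_comm hx hy
  obtain ⟨A₀, hA₀, hA₀H⟩ : ∃ A₀ ∈ MaxEA p (P : Subgroup G), ¬ A₀ ≤ H := by
    by_contra hcon
    push Not at hcon
    apply hJH
    exact sSup_le hcon
  have hDNA₀ : ¬ D ≤ Subgroup.normalizer (A₀ : Set G) := fun h => hA₀H (hquad A₀ hA₀ h)
  have hDA₀ : ¬ D ≤ A₀ := fun h => hDNA₀ (h.trans Subgroup.le_normalizer)
  obtain ⟨A₁, hA₁, -, hDA₁, hDNA₁⟩ := (zjhyp_elem hp2 P).rep (P : Subgroup G) D le_rfl hDP
    Subgroup.le_normalizer (by rw [normal_normalizer_eq_top D]; exact le_top) hDcl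
    ⟨A₀, hA₀, hDA A₀ hA₀, hDA₀⟩
  have hA₁H : A₁ ≤ H := hquad A₁ hA₁ hDNA₁
  have hsub : MaxEA p H ⊆ MaxEA p (P : Subgroup G) :=
    famQ_subset_of_le _ c.hHP hA₁ hA₁H
  have hA₁' : A₁ ∈ MaxEA p H := famQ_mem_of_le _ c.hHP hA₁ hA₁H
  have hTJH : TJ p H ≤ TJ p (P : Subgroup G) := sSup_le_sSup hsub
  have hTn : (TJ p H).Normal := TJ_normal_of_normal p H
  have hCTn : (Subgroup.centralizer (TJ p H : Set G)).Normal := Subgroup.normal_centralizer
  have hZC : Z ≤ Subgroup.centralizer (TJ p H : Set G) :=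
    hZJ.trans (Subgroup.centralizer_le (by exact_mod_cast hTJH))
  have hBC : B ≤ Subgroup.centralizer (TJ p H : Set G) := by
    have h1 : Subgroup.normalClosure ((Z ⊓ B : Subgroup G) : Set G) ≤
        Subgroup.centralizer (TJ p H : Set G) :=
      Subgroup.normalClosure_le_normal (by exact_mod_cast (inf_le_left.trans hZC))
    rw [hB₁eq] at h1
    exact h1
  apply absurd _ hDA₁
  intro d hd
  apply mem_of_mem_maxEA hA₁ (hDP hd) ((hDmem d).mp hd).2
  have h1 := hBC (hDB hd)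
  rw [Subgroup.mem_centralizer_iff] at h1 ⊢
  intro a ha
  exact h1 a ((le_sSup hA₁' : A₁ ≤ TJ p H) ha)

theorem ze_normal (c : FinalCfg p G P H Kb) (hp2 : p ≠ 2) : (ZE p (P : Subgroup G)).Normal := by
  by_cases hJH : TJ p (P : Subgroup G) ≤ H
  · have hfam : MaxEA p H = MaxEA p (P : Subgroup G) :=
      famQ_eq_of_forall_le _ (Cfsg.Agent.Lib.Helper5.elemAb_bot p) c.hHP
        (fun A hA => (le_sSup hA : A ≤ TJ p (P : Subgroup G)).trans hJH)
    have hTJ : TJ p (P : Subgroup G) = TJ p H := by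
      unfold TJ; rw [hfam]
    have hTn : (TJ p H).Normal := TJ_normal_of_normal p H
    have hCTn : (Subgroup.centralizer (TJ p H : Set G)).Normal := Subgroup.normal_centralizer
    unfold ZE
    rw [hTJ]
    infer_instance
  · have h := ze_inf_normal c hp2 hJH _ rfl (Nat.card H) H hHn c.hHp rfl
    rw [inf_eq_left.mpr (ze_le_H c hp2)] at h
    exact h

end ZEInd

end Cfsg.Agent.Lib.Helper1.GNPC3
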