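import Mathlib
import Cfsg.Agent.Lib.Helper1.GNPC3.ZEInd
import Cfsg.Agent.Lib.Helper11.PKClaim

set_option autoImplicit false

namespace Cfsg.Agent.Lib.Helper1.GNPC3

open Cfsg Cfsg.Agent.S5306 Cfsg.Agent.Lib.Helper1.TNPC Cfsg.Agent.Lib.Helper1.GNPC
  Cfsg.Agent.Lib.Helper9

open scoped Pointwise commutatorElement

section ZEGen

variable {G : Type*} [Group G]

set_option maxHeartbeats 3200000 in
theorem ze_inf_normal_gen [Finite G] {p : ℕ} [hp : Fact p.Prime] (hp2 : p ≠ 2) (P : Sylow p G)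
    (hst : ∀ (V : Subgroup G) [V.Normal], IsPGroup p V → ∀ a ∈ (P : Subgroup G),
      ⁅⁅V, Subgroup.zpowers a⁆, Subgroup.zpowers a⁆ = ⊥ →
      (QuotientGroup.mk a : G ⧸ Subgroup.centralizer (V : Set G)) ∈
        Cfsg.pCore p (G ⧸ Subgroup.centralizer (V : Set G))) :
    ∀ (n : ℕ) (L : Subgroup G), L.Normal → Nat.card L = n → ∀ (m : ℕ) (B : Subgroup G),
      B.Normal → IsPGroup p B → Nat.card B = m →
      (ZE p ((P : Subgroup G) ⊓ L) ⊓ B).Normal := by
  intro n
  induction n using Nat.strong_induction_on with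
  | _ n ihL =>
  intro L hLn hLcard m
  induction m using Nat.strong_induction_on with
  | _ m ihB =>
  intro B hBn hBp hBcard
  have := hLn
  have := hBn
  obtain ⟨Z, hZ⟩ : ∃ Z : Subgroup G, Z = ZE p ((P : Subgroup G) ⊓ L) := ⟨_, rfl⟩
  rw [← hZ]
  have ihB' : ∀ m' < m, ∀ B' : Subgroup G, B'.Normal → IsPGroup p B' → Nat.card B' = m' →
      (Z ⊓ B').Normal := by
    rw [hZ]; exact ihB
  have hBP : B ≤ (P : Subgroup G) := hBp.le_sylow_of_normal P
  have hPD : (P : Subgroup G) ≤ Subgroup.normalizer (((P : Subgroup G) ⊓ L : Subgroup G) : Set G) := by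
    intro g hg
    apply mem_normalizer_inf (Subgroup.le_normalizer hg)
    rw [normal_normalizer_eq_top L]; trivial
  have hZD : Z ≤ (P : Subgroup G) ⊓ L := by rw [hZ]; exact ZE_le p _
  have hZP : Z ≤ (P : Subgroup G) := hZD.trans inf_le_left
  have hZLL : Z ≤ L := hZD.trans inf_le_right
  have hNDZ : Subgroup.normalizer (((P : Subgroup G) ⊓ L : Subgroup G) : Set G) ≤
      Subgroup.normalizer (Z : Set G) := by
    rw [hZ]; exact normalizer_le_normalizer_ZE p _
  have hNDZ₁ : Subgroup.normalizer (((P : Subgroup G) ⊓ L : Subgroup G) : Set G) ≤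
      Subgroup.normalizer ((Z ⊓ B : Subgroup G) : Set G) := by
    intro g hg
    apply mem_normalizer_inf (hNDZ hg)
    rw [normal_normalizer_eq_top B]; trivial
  have hPZ := hPD.trans hNDZ
  have hPZ₁ := hPD.trans hNDZ₁
  have hZcomm : ∀ x ∈ Z, ∀ y ∈ Z, x * y = y * x := by
    intro x hx y hy
    rw [hZ] at hx hy
    exact ZE_comm p _ hx hy
  have hZJ : Z ≤ Subgroup.centralizer (TJ p ((P : Subgroup G) ⊓ L) : Set G) := by
    rw [hZ]; exact inf_le_right
  have hB₁B : Subgroup.normalClosure ((Z ⊓ B : Subgroup G) : Set G) ≤ B :=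
    Subgroup.normalClosure_le_normal (by exact_mod_cast (inf_le_right : Z ⊓ B ≤ B))
  have hZ₁B₁ : Z ⊓ B ≤ Subgroup.normalClosure ((Z ⊓ B : Subgroup G) : Set G) :=
    Subgroup.le_normalClosure
  by_cases hlt : Nat.card (Subgroup.normalClosure ((Z ⊓ B : Subgroup G) : Set G)) < Nat.card B
  · have h1 := ihB' _ (hBcard ▸ hlt) _ Subgroup.normalClosure_normal (hBp.to_le hB₁B) rfl
    have heq : Z ⊓ Subgroup.normalClosure ((Z ⊓ B : Subgroup G) : Set G) = Z ⊓ B :=
      le_antisymm (inf_le_inf_left _ hB₁B) (le_inf inf_le_left hZ₁B₁)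
    rw [heq] at h1; exact h1
  have hB₁eq : Subgroup.normalClosure ((Z ⊓ B : Subgroup G) : Set G) = B :=
    Subgroup.eq_of_le_of_card_ge hB₁B (not_lt.mp hlt)
  have hBL : B ≤ L := by
    rw [← hB₁eq]
    exact Subgroup.normalClosure_le_normal (by exact_mod_cast (inf_le_left.trans hZLL))
  by_cases hbot : B = ⊥
  · have h1 : Z ⊓ B = ⊥ := by rw [hbot]; exact inf_bot_eq _
    rw [h1]; exact Subgroup.normal_bot
  have hB'lt : ⁅B, B⁆ < B := commutator_lt_of_isPGroup hBp hbot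
  have hB'n : (⁅B, B⁆).Normal := Subgroup.commutator_normal B B
  have hB'card : Nat.card ↥⁅B, B⁆ < m := hBcard ▸ Cfsg.Agent.Lib.Helper9.card_lt_of_lt' hB'lt
  have hN : (Z ⊓ ⁅B, B⁆).Normal := ihB' _ hB'card ⁅B, B⁆ hB'n (hBp.to_le hB'lt.le) rfl
  have h4a : ⁅Z ⊓ B, B⁆ ≤ Z ⊓ ⁅B, B⁆ := by
    rw [Subgroup.commutator_le]
    intro z hz b hb
    refine Subgroup.mem_inf.mpr ⟨?_, Subgroup.commutator_mem_commutator hz.2 hb⟩
    have hbN := hPZ (hBP hb)
    rw [Subgroup.mem_normalizer_iff] at hbN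
    have h1 : b * z⁻¹ * b⁻¹ ∈ Z := (hbN z⁻¹).mp (Z.inv_mem hz.1)
    have e : ⁅z, b⁆ = z * (b * z⁻¹ * b⁻¹) := by rw [commutatorElement_def]; group
    rw [e]; exact Subgroup.mul_mem _ hz.1 h1
  have h4b : ⁅B, B⁆ ≤ Z ⊓ ⁅B, B⁆ := by
    have h1 := commutator_normalClosure_le h4a
    rw [hB₁eq] at h1
    exact h1
  have hB'Z : ⁅B, B⁆ ≤ Z := h4b.trans inf_le_left
  have h5a : ⁅Z ⊓ B, ⁅B, B⁆⁆ ≤ ⊥ := by
    rw [Subgroup.commutator_le]
    intro z hz c hc
    rw [Subgroup.mem_bot, commutatorElement_eq_one_iff_mul_comm]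
    exact hZcomm z hz.1 c (hB'Z hc)
  have h5b : ⁅B, ⁅B, B⁆⁆ ≤ ⊥ := by
    have h1 := commutator_normalClosure_le h5a
    rw [hB₁eq] at h1
    exact h1
  have hcl : ⁅⁅B, B⁆, B⁆ = ⊥ := by
    rw [Subgroup.commutator_comm]; exact le_bot_iff.mp h5b
  have hBc : ∀ b ∈ B, ∀ c ∈ ⁅B, B⁆, b * c = c * b := by
    intro b hb c hc
    have h1 : ⁅b, c⁆ ∈ ⁅B, ⁅B, B⁆⁆ := Subgroup.commutator_mem_commutator hb hc
    have h2 := h5b h1
    rw [Subgroup.mem_bot, commutatorElement_eq_one_iff_mul_comm] at h2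
    exact h2
  have hcB : commutator ↥B ≤ Subgroup.center ↥B := subtype_class_two B hBc
  let D : Subgroup G :=
    { carrier := {b | b ∈ B ∧ b ^ p = 1}
      mul_mem' := by
        rintro a b ⟨ha, hap⟩ ⟨hb, hbp⟩
        refine ⟨B.mul_mem ha hb, ?_⟩
        have h1 := mul_pow_prime_eq_one_of_class_two hp.out hp2 hcB
          (x := (⟨a, ha⟩ : ↥B)) (y := ⟨b, hb⟩) (Subtype.ext hap) (Subtype.ext hbp)
        have h2 := congrArg Subtype.val h1
        simpa using h2
      one_mem' := ⟨B.one_mem, one_pow p⟩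
      inv_mem' := by
        rintro a ⟨ha, hap⟩
        exact ⟨B.inv_mem ha, by rw [inv_pow, hap, inv_one]⟩ }
  have hDmem : ∀ b : G, b ∈ D ↔ b ∈ B ∧ b ^ p = 1 := fun b => Iff.rfl
  have hDB : D ≤ B := fun b hb => ((hDmem b).mp hb).1
  have hDn : D.Normal := by
    constructor
    intro b hb g
    rw [hDmem] at hb ⊢
    exact ⟨hBn.conj_mem b hb.1 g, by rw [conj_pow, hb.2]; group⟩
  have hDp : IsPGroup p D := hBp.to_le hDB
  have hDP : D ≤ (P : Subgroup G) := hDB.trans hBP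
  have hDA : ∀ A ∈ MaxEA p ((P : Subgroup G) ⊓ L), ⁅D, D⁆ ≤ A := by
    intro A hA
    rw [Subgroup.commutator_le]
    intro d hd e he
    have hdB := hDB hd
    have heB := hDB he
    have hmemB' : ⁅d, e⁆ ∈ ⁅B, B⁆ := Subgroup.commutator_mem_commutator hdB heB
    have hmemZ : ⁅d, e⁆ ∈ Z := hB'Z hmemB'
    apply mem_of_mem_maxEA hA (hZD hmemZ)
    · have hcc : ⁅(⟨d, hdB⟩ : ↥B), (⟨e, heB⟩ : ↥B)⁆ ∈ Subgroup.center ↥B :=
        hcB (commElem_mem_commutator _ _)
      have h1 := commElem_pow_left_of_central hcc p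
      have hdp : (⟨d, hdB⟩ : ↥B) ^ p = 1 := Subtype.ext ((hDmem d).mp hd).2
      rw [hdp] at h1
      have h2 : ⁅(1 : ↥B), (⟨e, heB⟩ : ↥B)⁆ = 1 := by simp
      rw [h2] at h1
      have h3 := congrArg Subtype.val h1.symm
      have e0 : ((⁅(⟨d, hdB⟩ : ↥B), (⟨e, heB⟩ : ↥B)⁆ : ↥B) : G) = ⁅d, e⁆ := rfl
      rw [Subgroup.coe_pow, e0] at h3
      exact h3
    · have h1 := hZJ hmemZ
      rw [Subgroup.mem_centralizer_iff] at h1 ⊢
      intro a ha
      exact h1 a ((le_sSup hA : A ≤ TJ p ((P : Subgroup G) ⊓ L)) ha)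
  have hDcl : ⁅⁅D, D⁆, D⁆ = ⊥ := by
    rw [eq_bot_iff, ← hcl]
    exact Subgroup.commutator_mono (Subgroup.commutator_mono hDB hDB) hDB
  have hCn : (Subgroup.centralizer (B : Set G)).Normal := Subgroup.normal_centralizer
  have hCDn : (Subgroup.centralizer (D : Set G)).Normal := Subgroup.normal_centralizer
  have hKn : ((Cfsg.pCore p (G ⧸ Subgroup.centralizer (B : Set G))).comap
      (QuotientGroup.mk' (Subgroup.centralizer (B : Set G)))).Normal :=
    (Cfsg.Agent.Lib.Helper1.pCore_normal p).comap _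
  have hKZ₁ : (Cfsg.pCore p (G ⧸ Subgroup.centralizer (B : Set G))).comap
      (QuotientGroup.mk' (Subgroup.centralizer (B : Set G))) ≤
      Subgroup.normalizer ((Z ⊓ B : Subgroup G) : Set G) := by
    intro k hk
    rw [Subgroup.mem_comap] at hk
    have hsurj : Function.Surjective (QuotientGroup.mk' (Subgroup.centralizer (B : Set G))) :=
      QuotientGroup.mk'_surjective _
    have h1 : Cfsg.pCore p (G ⧸ Subgroup.centralizer (B : Set G)) ≤
        ((Sylow.mapSurjective hsurj P : Sylow p (G ⧸ Subgroup.centralizer (B : Set G))) :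
          Subgroup (G ⧸ Subgroup.centralizer (B : Set G))) :=
      Cfsg.Agent.Lib.Helper1.pCore_le_sylow p _
    have h2 := h1 hk
    rw [Sylow.coe_mapSurjective] at h2
    obtain ⟨x, hx, hxk⟩ := Subgroup.mem_map.mp h2
    have h3 : x⁻¹ * k ∈ Subgroup.centralizer (B : Set G) := QuotientGroup.eq.mp hxk
    have h4 : x⁻¹ * k ∈ Subgroup.normalizer ((Z ⊓ B : Subgroup G) : Set G) :=
      centralizer_le_normalizer_of_le inf_le_right h3
    have h5 : k = x * (x⁻¹ * k) := by group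
    rw [h5]
    exact Subgroup.mul_mem _ (hPZ₁ hx) h4
  have hKM := (Subgroup.normal_le_normalCore (hN := hKn)).mpr hKZ₁
  have hMn : (Subgroup.normalizer ((Z ⊓ B : Subgroup G) : Set G)).normalCore.Normal :=
    Subgroup.normalCore_normal _
  have hMZ₁ := Subgroup.normalCore_le (Subgroup.normalizer ((Z ⊓ B : Subgroup G) : Set G))
  have hNDN : (Cfsg.pCore p (G ⧸ Subgroup.centralizer (D : Set G))).comap
      (QuotientGroup.mk' (Subgroup.centralizer (D : Set G))) ≤
      (Cfsg.pCore p (G ⧸ Subgroup.centralizer (B : Set G))).comap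
      (QuotientGroup.mk' (Subgroup.centralizer (B : Set G))) := by
    have hNDn : ((Cfsg.pCore p (G ⧸ Subgroup.centralizer (D : Set G))).comap
        (QuotientGroup.mk' (Subgroup.centralizer (D : Set G)))).Normal :=
      (Cfsg.Agent.Lib.Helper1.pCore_normal p).comap _
    have hXn : (((Cfsg.pCore p (G ⧸ Subgroup.centralizer (D : Set G))).comap
        (QuotientGroup.mk' (Subgroup.centralizer (D : Set G)))).map
        (QuotientGroup.mk' (Subgroup.centralizer (B : Set G)))).Normal :=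
      Subgroup.Normal.map hNDn _ (QuotientGroup.mk'_surjective _)
    have hkey : ∀ y ∈ (Cfsg.pCore p (G ⧸ Subgroup.centralizer (D : Set G))).comap
        (QuotientGroup.mk' (Subgroup.centralizer (D : Set G))),
        ∃ k : ℕ, y ^ (p ^ k) ∈ Subgroup.centralizer (B : Set G) := by
      intro y hy
      rw [Subgroup.mem_comap] at hy
      obtain ⟨a, ha⟩ := (Cfsg.Agent.Lib.Helper1.pCore_isPGroup p
        (G := G ⧸ Subgroup.centralizer (D : Set G))) ⟨_, hy⟩
      have ha' := congrArg Subtype.val ha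
      rw [Subgroup.coe_pow] at ha'
      have hw : y ^ (p ^ a) ∈ Subgroup.centralizer (D : Set G) := by
        rw [← QuotientGroup.eq_one_iff, QuotientGroup.mk_pow]
        exact ha'
      have hw0 : orderOf (y ^ (p ^ a)) ≠ 0 := (orderOf_pos _).ne'
      obtain ⟨e, m', hm', hem⟩ := Nat.exists_eq_pow_mul_and_not_dvd hw0 p hp.out.ne_one
      have hcopm : Nat.Coprime m' p := (hp.out.coprime_iff_not_dvd.mpr hm').symm
      have ho : orderOf ((y ^ (p ^ a)) ^ (p ^ e)) = m' := by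
        rw [orderOf_pow_of_dvd (pow_ne_zero e hp.out.ne_zero) ⟨m', hem⟩, hem,
          Nat.mul_div_cancel_left _ (pow_pos hp.out.pos e)]
      have hw' : (y ^ (p ^ a)) ^ (p ^ e) ∈ Subgroup.centralizer (D : Set G) :=
        Subgroup.pow_mem _ hw _
      have hcent := Cfsg.Agent.Lib.Helper11.centralizes_of_centralizes_omega p hp2 B hBp
        ((y ^ (p ^ a)) ^ (p ^ e))
        (by rw [normal_normalizer_eq_top B]; trivial)
        (by rw [ho]; exact hcopm)
        (by
          intro x hx hxp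
          have hxD : x ∈ D := (hDmem x).mpr ⟨hx, hxp⟩
          exact (Subgroup.mem_centralizer_iff.mp hw' x hxD).symm)
      refine ⟨a + e, ?_⟩
      rw [pow_add, pow_mul]
      rw [Subgroup.mem_centralizer_iff]
      intro x hx
      exact (hcent x hx).symm
    have hXp : IsPGroup p (((Cfsg.pCore p (G ⧸ Subgroup.centralizer (D : Set G))).comap
        (QuotientGroup.mk' (Subgroup.centralizer (D : Set G)))).map
        (QuotientGroup.mk' (Subgroup.centralizer (B : Set G)))) := by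
      rintro ⟨_, y, hy, rfl⟩
      obtain ⟨k, hk⟩ := hkey y hy
      refine ⟨k, ?_⟩
      apply Subtype.ext
      rw [Subgroup.coe_pow]
      show (QuotientGroup.mk' (Subgroup.centralizer (B : Set G)) y) ^ (p ^ k) = 1
      rw [← map_pow]
      exact (QuotientGroup.eq_one_iff _).mpr hk
    have hle := Cfsg.Agent.Lib.Helper1.le_pCore hXn hXp
    intro y hy
    rw [Subgroup.mem_comap]
    exact hle ⟨y, hy, rfl⟩
  have hquadD : ∀ A : Subgroup G, A ≤ (P : Subgroup G) → IsMulCommutative A →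
      D ≤ Subgroup.normalizer (A : Set G) →
      A ≤ (Cfsg.pCore p (G ⧸ Subgroup.centralizer (D : Set G))).comap
      (QuotientGroup.mk' (Subgroup.centralizer (D : Set G))) := by
    intro A hAP hAc hBA a ha
    have hs := hst D hDp a (hAP ha) ?_
    · exact hs
    · have hza : Subgroup.zpowers a ≤ A := Subgroup.zpowers_le.mpr ha
      have h1 : ⁅D, Subgroup.zpowers a⁆ ≤ A := by
        rw [Subgroup.commutator_le]
        intro b hb x hx
        have hbN := hBA hb
        rw [Subgroup.mem_normalizer_iff] at hbN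
        have h2 : b * x * b⁻¹ ∈ A := (hbN x).mp (hza hx)
        rw [commutatorElement_def]
        exact A.mul_mem h2 (A.inv_mem (hza hx))
      rw [eq_bot_iff]
      calc ⁅⁅D, Subgroup.zpowers a⁆, Subgroup.zpowers a⁆ ≤ ⁅A, A⁆ := Subgroup.commutator_mono h1 hza
        _ = ⊥ := by
          rw [Subgroup.commutator_eq_bot_iff_le_centralizer]
          exact Subgroup.le_centralizer_iff_isMulCommutative.mpr hAc
  have hL₁n : (L ⊓ (Subgroup.normalizer ((Z ⊓ B : Subgroup G) : Set G)).normalCore).Normal :=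
    Subgroup.normal_inf_normal L _
  have hD₁ : (P : Subgroup G) ⊓ (L ⊓ (Subgroup.normalizer
      ((Z ⊓ B : Subgroup G) : Set G)).normalCore) ≤ (P : Subgroup G) ⊓ L :=
    inf_le_inf_left _ inf_le_left
  by_cases hall : ∀ A ∈ MaxEA p ((P : Subgroup G) ⊓ L), A ≤ (Subgroup.normalizer
      ((Z ⊓ B : Subgroup G) : Set G)).normalCore
  · have hfam : MaxEA p ((P : Subgroup G) ⊓ (L ⊓ (Subgroup.normalizer
        ((Z ⊓ B : Subgroup G) : Set G)).normalCore)) = MaxEA p ((P : Subgroup G) ⊓ L) :=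
      famQ_eq_of_forall_le _ (Cfsg.Agent.Lib.Helper5.elemAb_bot p) hD₁ (fun A hA =>
        le_inf (hA.1.trans inf_le_left) (le_inf (hA.1.trans inf_le_right) (hall A hA)))
    have hz : ZE p ((P : Subgroup G) ⊓ (L ⊓ (Subgroup.normalizer
        ((Z ⊓ B : Subgroup G) : Set G)).normalCore)) = Z := by
      have e : ZE p ((P : Subgroup G) ⊓ (L ⊓ (Subgroup.normalizer
          ((Z ⊓ B : Subgroup G) : Set G)).normalCore)) = ZE p ((P : Subgroup G) ⊓ L) := by
        unfold ZE TJ; rw [hfam]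
      rw [e, hZ]
    by_cases hlt2 : Nat.card ↥(L ⊓ (Subgroup.normalizer
        ((Z ⊓ B : Subgroup G) : Set G)).normalCore) < Nat.card L
    · have h1 := ihL _ (hLcard ▸ hlt2) _ hL₁n rfl (Nat.card B) B hBn hBp rfl
      rw [hz] at h1
      exact h1
    · have hL₁eq : L ⊓ (Subgroup.normalizer
          ((Z ⊓ B : Subgroup G) : Set G)).normalCore = L :=
        Subgroup.eq_of_le_of_card_ge inf_le_left (not_lt.mp hlt2)
      have hLM : L ≤ (Subgroup.normalizer ((Z ⊓ B : Subgroup G) : Set G)).normalCore :=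
        (le_of_eq hL₁eq.symm).trans inf_le_right
      have hfr := Sylow.normalizer_sup_eq_top (helper17.sylowInfNormal P L)
      rw [helper17.sylowInfNormal_map] at hfr
      rw [← Subgroup.normalizer_eq_top_iff, eq_top_iff, ← hfr]
      exact sup_le hNDZ₁ (hLM.trans hMZ₁)
  · push Not at hall
    obtain ⟨A, hA, hAM⟩ := hall
    have hAK : ¬ A ≤ (Cfsg.pCore p (G ⧸ Subgroup.centralizer (B : Set G))).comap
        (QuotientGroup.mk' (Subgroup.centralizer (B : Set G))) := fun hh => hAM (hh.trans hKM)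
    have hAND : ¬ A ≤ (Cfsg.pCore p (G ⧸ Subgroup.centralizer (D : Set G))).comap
        (QuotientGroup.mk' (Subgroup.centralizer (D : Set G))) := fun hh => hAK (hh.trans hNDN)
    have hAc : IsMulCommutative A := hA.2.1.1
    have hDNA : ¬ D ≤ Subgroup.normalizer (A : Set G) :=
      fun hh => hAND (hquadD A (hA.1.trans inf_le_left) hAc hh)
    have hDA' : ¬ D ≤ A := fun hh => hDNA (hh.trans Subgroup.le_normalizer)
    obtain ⟨A₁, hA₁, -, hDA₁, hDNA₁⟩ := (zjhyp_elem hp2 P).rep ((P : Subgroup G) ⊓ L) D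
      inf_le_left hDP hPD (by rw [normal_normalizer_eq_top D]; exact le_top) hDcl
      ⟨A, hA, hDA A hA, hDA'⟩
    have hA₁c : IsMulCommutative A₁ := hA₁.2.1.1
    have hA₁M : A₁ ≤ (Subgroup.normalizer ((Z ⊓ B : Subgroup G) : Set G)).normalCore :=
      ((hquadD A₁ (hA₁.1.trans inf_le_left) hA₁c hDNA₁).trans hNDN).trans hKM
    have hA₁D₁ : A₁ ≤ (P : Subgroup G) ⊓ (L ⊓ (Subgroup.normalizer
        ((Z ⊓ B : Subgroup G) : Set G)).normalCore) :=
      le_inf (hA₁.1.trans inf_le_left) (le_inf (hA₁.1.trans inf_le_right) hA₁M)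
    have hA₁' : A₁ ∈ MaxEA p ((P : Subgroup G) ⊓ (L ⊓ (Subgroup.normalizer
        ((Z ⊓ B : Subgroup G) : Set G)).normalCore)) := famQ_mem_of_le _ hD₁ hA₁ hA₁D₁
    have hsub : MaxEA p ((P : Subgroup G) ⊓ (L ⊓ (Subgroup.normalizer
        ((Z ⊓ B : Subgroup G) : Set G)).normalCore)) ⊆ MaxEA p ((P : Subgroup G) ⊓ L) :=
      famQ_subset_of_le _ hD₁ hA₁ hA₁D₁
    obtain ⟨L₁, hL₁⟩ : ∃ L₁ : Subgroup G, L₁ = L ⊓ (Subgroup.normalizer
        ((Z ⊓ B : Subgroup G) : Set G)).normalCore := ⟨_, rfl⟩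
    rw [← hL₁] at hA₁' hsub hL₁n
    have hL₁N : L₁ ≤ Subgroup.normalizer ((Z ⊓ B : Subgroup G) : Set G) := by
      rw [hL₁]; exact inf_le_right.trans hMZ₁
    have hJ₁ : TJ p ((P : Subgroup G) ⊓ L₁) ≤ TJ p ((P : Subgroup G) ⊓ L) := sSup_le_sSup hsub
    have hZ₁J₁ : ∀ z ∈ Z ⊓ B, ∀ x ∈ TJ p ((P : Subgroup G) ⊓ L₁), x * z = z * x := by
      intro z hz x hx
      exact Subgroup.mem_centralizer_iff.mp (hZJ hz.1) x (hJ₁ hx)
    have hfr := Sylow.normalizer_sup_eq_top (helper17.sylowInfNormal P L₁)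
    rw [helper17.sylowInfNormal_map] at hfr
    have hconj : ∀ g : G, ∀ z ∈ Z ⊓ B, ∀ x ∈ TJ p ((P : Subgroup G) ⊓ L₁),
        (g * x * g⁻¹) * z = z * (g * x * g⁻¹) := by
      intro g z hz x hx
      have hg : g ∈ L₁ ⊔ Subgroup.normalizer (((P : Subgroup G) ⊓ L₁ : Subgroup G) : Set G) := by
        rw [sup_comm, hfr]; trivial
      rw [← SetLike.mem_coe, Subgroup.normal_mul] at hg
      obtain ⟨l, hl, n', hn', rfl⟩ := hg
      have hx' : n' * x * n'⁻¹ ∈ TJ p ((P : Subgroup G) ⊓ L₁) := by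
        have := normalizer_le_normalizer_TJ (p := p) ((P : Subgroup G) ⊓ L₁) hn'
        rw [Subgroup.mem_normalizer_iff] at this
        exact (this x).mp hx
      have hlN := hL₁N hl
      have hz' : l⁻¹ * z * l ∈ Z ⊓ B := by
        rw [Subgroup.mem_normalizer_iff] at hlN
        rw [hlN]
        have e : l * (l⁻¹ * z * l) * l⁻¹ = z := by group
        rw [e]; exact hz
      have h1 := hZ₁J₁ _ hz' _ hx'
      calc (l * n' * x * (l * n')⁻¹) * z
          = l * ((n' * x * n'⁻¹) * (l⁻¹ * z * l)) * l⁻¹ := by group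
        _ = l * ((l⁻¹ * z * l) * (n' * x * n'⁻¹)) * l⁻¹ := by rw [h1]
        _ = z * (l * n' * x * (l * n')⁻¹) := by group
    have hBC : B ≤ Subgroup.centralizer (TJ p ((P : Subgroup G) ⊓ L₁) : Set G) := by
      rw [← hB₁eq]
      unfold Subgroup.normalClosure
      rw [Subgroup.closure_le]
      intro y hy
      obtain ⟨z, hz, hzy⟩ := Group.mem_conjugatesOfSet_iff.mp hy
      obtain ⟨g, hg⟩ := isConj_iff.mp hzy
      subst hg
      rw [SetLike.mem_coe, Subgroup.mem_centralizer_iff]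
      intro x hx
      have h1 := hconj g⁻¹ z hz x hx
      rw [inv_inv] at h1
      calc x * (g * z * g⁻¹) = g * ((g⁻¹ * x * g) * z) * g⁻¹ := by group
        _ = g * (z * (g⁻¹ * x * g)) * g⁻¹ := by rw [h1]
        _ = g * z * g⁻¹ * x := by group
    apply absurd _ hDA₁
    intro d hd
    apply mem_of_mem_maxEA hA₁ ⟨hDP hd, hBL (hDB hd)⟩ ((hDmem d).mp hd).2
    have h1 := hBC (hDB hd)
    rw [Subgroup.mem_centralizer_iff] at h1 ⊢
    intro a ha
    exact h1 a ((le_sSup hA₁' : A₁ ≤ TJ p ((P : Subgroup G) ⊓ L₁)) ha)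

end ZEGen

end Cfsg.Agent.Lib.Helper1.GNPC3
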