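import Mathlib
import Cfsg.Agent.Lib.Helper1.GNPC3.ZEGen

set_option autoImplicit false

namespace Cfsg.Agent.Lib.Helper1.GNPC3

open Cfsg Cfsg.Agent.S5306 Cfsg.Agent.Lib.Helper1.TNPC Cfsg.Agent.Lib.Helper1.GNPC
  Cfsg.Agent.Lib.Helper9

open scoped Pointwise commutatorElement

section ZEGen2

variable {G : Type*} [Group G]

theorem ze_le_pCore_gen [Finite G] {p : ℕ} [Fact p.Prime] (S : Sylow p G)
    (hc : Subgroup.centralizer (Cfsg.pCore p G : Set G) ≤ Cfsg.pCore p G)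
    (hst : ∀ (V : Subgroup G) [V.Normal], IsPGroup p V → ∀ a ∈ (S : Subgroup G),
      ⁅⁅V, Subgroup.zpowers a⁆, Subgroup.zpowers a⁆ = ⊥ →
      (QuotientGroup.mk a : G ⧸ Subgroup.centralizer (V : Set G)) ∈
        Cfsg.pCore p (G ⧸ Subgroup.centralizer (V : Set G))) :
    ZE p (S : Subgroup G) ≤ Cfsg.pCore p G := by
  intro z hz
  have hQn : (Cfsg.pCore p G).Normal := Cfsg.Agent.Lib.Helper1.pCore_normal p
  have hQp : IsPGroup p (Cfsg.pCore p G) := Cfsg.Agent.Lib.Helper1.pCore_isPGroup p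
  have hQS : Cfsg.pCore p G ≤ (S : Subgroup G) := Cfsg.Agent.Lib.Helper1.pCore_le_sylow p S
  have hSZ : (S : Subgroup G) ≤ Subgroup.normalizer (ZE p (S : Subgroup G) : Set G) :=
    Subgroup.le_normalizer.trans (normalizer_le_normalizer_ZE p _)
  have hzp : Subgroup.zpowers z ≤ ZE p (S : Subgroup G) := Subgroup.zpowers_le.mpr hz
  have hquad : ⁅⁅Cfsg.pCore p G, Subgroup.zpowers z⁆, Subgroup.zpowers z⁆ = ⊥ := by
    have h1 : ⁅Cfsg.pCore p G, Subgroup.zpowers z⁆ ≤ ZE p (S : Subgroup G) := by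
      rw [Subgroup.commutator_le]
      intro q hq x hx
      have hqN := hSZ (hQS hq)
      rw [Subgroup.mem_normalizer_iff] at hqN
      have h2 : q * x * q⁻¹ ∈ ZE p (S : Subgroup G) := (hqN x).mp (hzp hx)
      rw [commutatorElement_def]
      exact Subgroup.mul_mem _ h2 (Subgroup.inv_mem _ (hzp hx))
    rw [eq_bot_iff]
    calc ⁅⁅Cfsg.pCore p G, Subgroup.zpowers z⁆, Subgroup.zpowers z⁆
        ≤ ⁅ZE p (S : Subgroup G), ZE p (S : Subgroup G)⁆ := Subgroup.commutator_mono h1 hzp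
      _ ≤ ⊥ := by
        rw [Subgroup.commutator_le]
        intro a ha b hb
        rw [Subgroup.mem_bot, commutatorElement_eq_one_iff_mul_comm]
        exact ZE_comm p _ ha hb
  have hzS : z ∈ (S : Subgroup G) := ZE_le p _ hz
  have hs := hst (Cfsg.pCore p G) hQp z hzS hquad
  have hCn : (Subgroup.centralizer (Cfsg.pCore p G : Set G)).Normal := Subgroup.normal_centralizer
  have hKn : ((Cfsg.pCore p (G ⧸ Subgroup.centralizer (Cfsg.pCore p G : Set G))).comap
      (QuotientGroup.mk' (Subgroup.centralizer (Cfsg.pCore p G : Set G)))).Normal :=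
    (Cfsg.Agent.Lib.Helper1.pCore_normal p).comap _
  have hKp : IsPGroup p ((Cfsg.pCore p (G ⧸ Subgroup.centralizer (Cfsg.pCore p G : Set G))).comap
      (QuotientGroup.mk' (Subgroup.centralizer (Cfsg.pCore p G : Set G)))) := by
    apply IsPGroup.comap_of_ker_isPGroup (Cfsg.Agent.Lib.Helper1.pCore_isPGroup p)
    rw [QuotientGroup.ker_mk']
    exact hQp.to_le hc
  have hK := Cfsg.Agent.Lib.Helper1.le_pCore hKn hKp
  exact hK hs

theorem ze_normal_gen [Finite G] {p : ℕ} [Fact p.Prime] (hp2 : p ≠ 2) (S : Sylow p G)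
    (hc : Subgroup.centralizer (Cfsg.pCore p G : Set G) ≤ Cfsg.pCore p G)
    (hst : ∀ (V : Subgroup G) [V.Normal], IsPGroup p V → ∀ a ∈ (S : Subgroup G),
      ⁅⁅V, Subgroup.zpowers a⁆, Subgroup.zpowers a⁆ = ⊥ →
      (QuotientGroup.mk a : G ⧸ Subgroup.centralizer (V : Set G)) ∈
        Cfsg.pCore p (G ⧸ Subgroup.centralizer (V : Set G))) :
    (ZE p (S : Subgroup G)).Normal := by
  have h1 := ze_inf_normal_gen hp2 S hst _ ⊤ Subgroup.normal_top rfl _ (Cfsg.pCore p G)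
    (Cfsg.Agent.Lib.Helper1.pCore_normal p) (Cfsg.Agent.Lib.Helper1.pCore_isPGroup p) rfl
  rw [inf_top_eq, inf_eq_left.mpr (ze_le_pCore_gen S hc hst)] at h1
  exact h1

theorem ze_characteristic_gen [Finite G] {p : ℕ} [Fact p.Prime] (hp2 : p ≠ 2) (S : Sylow p G)
    (hc : Subgroup.centralizer (Cfsg.pCore p G : Set G) ≤ Cfsg.pCore p G)
    (hst : ∀ (V : Subgroup G) [V.Normal], IsPGroup p V → ∀ a ∈ (S : Subgroup G),
      ⁅⁅V, Subgroup.zpowers a⁆, Subgroup.zpowers a⁆ = ⊥ →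
      (QuotientGroup.mk a : G ⧸ Subgroup.centralizer (V : Set G)) ∈
        Cfsg.pCore p (G ⧸ Subgroup.centralizer (V : Set G))) :
    (ZE p (S : Subgroup G)).Characteristic := by
  have hn := ze_normal_gen hp2 S hc hst
  rw [Subgroup.characteristic_iff_map_eq]
  intro φ
  obtain ⟨g, hg⟩ := sylow_map_aut_eq_conj S φ
  rw [← ZE_map p φ.toMonoidHom φ.injective.injOn, hg,
    ZE_map p (MulAut.conj g).toMonoidHom (MulAut.conj g).injective.injOn]
  apply zj_map_conj_eq_of_mem_normalizer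
  rw [normal_normalizer_eq_top]
  trivial

end ZEGen2

end Cfsg.Agent.Lib.Helper1.GNPC3
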