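import Mathlib
import Cfsg.Agent.Lib.Helper1.GNPC3.ZEGen2
import Cfsg.Agent.Lib.Helper10.ZJfree1
import Cfsg.Agent.Lib.Helper13.WellPlaced2
import Cfsg.Agent.S1961
import Cfsg.Agent.S3071

set_option autoImplicit false

universe u

namespace Cfsg.Agent.Lib.Helper1.GNPC3

open Cfsg Cfsg.Agent.Lib.Helper9 Cfsg.Agent.Lib.Helper10.ZJnpc Cfsg.Agent.Lib.Helper10.ZJsc
  Cfsg.Agent.Lib.Helper13 Cfsg.Agent.Lib.Helper10.NPStab Cfsg.Agent.Lib.Helper10.ZJfree

open scoped Pointwise commutatorElement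

section ZEFus

variable {p : ℕ} [Fact p.Prime]

def Wze (p : ℕ) : ∀ (Q : Type u) [Group Q], Subgroup Q :=
  fun Q _ => ZE p (⊤ : Subgroup Q)

theorem inducedFunctor_Wze {G : Type u} [Group G] (P : Subgroup G) :
    Cfsg.inducedFunctor (G := G) (Wze.{u} p) P = ZE p P := by
  unfold Cfsg.inducedFunctor Wze
  rw [← ZE_map p P.subtype (P.subtype_injective.injOn), ← MonoidHom.range_eq_map,
    Subgroup.range_subtype]

theorem isCharPFunctor_Wze : Cfsg.IsCharPFunctor.{u} p (Wze.{u} p) := by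
  constructor
  · intro Q _ _ hQp hnt
    unfold Wze
    apply ZE_ne_bot (hQp.to_subgroup ⊤)
    intro h
    obtain ⟨x, hx⟩ := exists_ne (1 : Q)
    apply hx
    have : x ∈ (⊤ : Subgroup Q) := Subgroup.mem_top x
    rw [h] at this
    exact this
  · intro Q R _ _ _ hQp φ
    unfold Wze
    rw [← ZE_map p φ.toMonoidHom (φ.injective.injOn),
      Subgroup.map_top_of_surjective _ φ.surjective]

theorem hWze_singleton :
    ∀ W' ∈ ({Wze.{u} p} : Set (∀ (Q : Type u) [Group Q], Subgroup Q)),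
      Cfsg.IsCharPFunctor.{u} p W' := by
  intro W' hW'
  rw [Set.mem_singleton_iff] at hW'
  rw [hW']; exact isCharPFunctor_Wze

theorem fcs_ze_of_sl2free (hp : p ≠ 2) (Y : Type u) [Group Y] [Finite Y]
    (h : ¬ Cfsg.Involves (Matrix.SpecialLinearGroup (Fin 2) (ZMod p)) Y) :
    FCS p {Wze.{u} p} Y := by
  apply sec_main hWze_singleton _ Y rfl
  rintro Q _ _ ⟨K, f, hf⟩ hc
  have hQfree : ¬ Cfsg.Involves (Matrix.SpecialLinearGroup (Fin 2) (ZMod p)) Q := fun hi =>
    h (involves_of_inj_surj_trans K.subtype K.subtype_injective f hf hi)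
  have hst := sl2free_nps hp Q hQfree
  apply fcs_singleton_of_normal
  intro T
  rw [inducedFunctor_Wze]
  exact ze_normal_gen hp T hc (fun V _ hV a _ hq => hst_of_normalizerPStable hst V hV a hq)

theorem local_controls_ze (hp : p ≠ 2) {G : Type u} [Group G] [Finite G] (N : Subgroup G)
    (h : ¬ Cfsg.Involves (Matrix.SpecialLinearGroup (Fin 2) (ZMod p)) ↥N) :
    Cfsg.ControlsStrongFusionIn p (Cfsg.inducedFunctor (G := G) (Wze.{u} p)) N :=
  controlsIn_of_family _ N (fcs_subgroup_of_type hWze_singleton N (fcs_ze_of_sl2free hp ↥N h))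

theorem ze_controls_fusion {G : Type u} [Group G] [Finite G] (hp : p ≠ 2)
    (hfree : ¬ ∃ (H K : Subgroup G) (hK : (K.subgroupOf H).Normal),
      Nonempty ((H ⧸ K.subgroupOf H) ≃* Matrix.SpecialLinearGroup (Fin 2) (ZMod p)))
    (P : Sylow p G) (A : Set G) (hA : A ⊆ (P : Set G)) (h : G)
    (hAh : (fun a => h * a * h⁻¹) '' A ⊆ (P : Set G)) :
    ∃ x ∈ Subgroup.normalizer (ZE p (P : Subgroup G) : Set G),
      ∀ a ∈ A, x * a * x⁻¹ = h * a * h⁻¹ := by
  have hW : Cfsg.IsConjugacyFunctor p (Cfsg.inducedFunctor (G := G) (Wze.{u} p)) :=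
    inducedFunctor_isConjugacyFunctor _ isCharPFunctor_Wze
  have hloc : ∀ T : Subgroup G, T ≠ ⊥ →
      Cfsg.IsWellPlaced p (Cfsg.inducedFunctor (G := G) (Wze.{u} p)) (P : Subgroup G) T →
      Cfsg.ControlsStrongFusionIn p (Cfsg.inducedFunctor (G := G) (Wze.{u} p))
        (Subgroup.normalizer ((T : Subgroup G) : Set G)) := by
    intro T _ _
    apply local_controls_ze hp
    intro hinv
    apply hfree
    obtain ⟨H, K, hK, -, hne⟩ := Cfsg.Agent.S3071.exists_section_of_involves _ hinv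
    exact ⟨H, K, hK, hne⟩
  have hglob := Cfsg.Agent.S1961.result P _ hW hloc
  have hPi : ¬ p ∣ (P : Subgroup G).relIndex ⊤ := by
    rw [Subgroup.relIndex_top_right]; exact P.not_dvd_index
  obtain ⟨x, hx, hxa⟩ := controls_of_sylow hW hglob (le_top : (P : Subgroup G) ≤ ⊤) P.isPGroup' hPi
    A h (Subgroup.mem_top h) hA hAh
  rw [inducedFunctor_Wze] at hx
  exact ⟨x, (Subgroup.mem_inf.mp hx).2, hxa⟩

end ZEFus

end Cfsg.Agent.Lib.Helper1.GNPC3
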