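import Mathlib
import Cfsg.Agent.Lib.Helper1.GNPC3.ZEInd

set_option autoImplicit false

namespace Cfsg.Agent.Lib.Helper1.GNPC3

open Cfsg Cfsg.Agent.S5306 Cfsg.Agent.Lib.Helper1.TNPC Cfsg.Agent.Lib.Helper1.GNPC
  Cfsg.Agent.Lib.Helper9

universe u

section ZEMain

variable {p : ℕ} [hp : Fact p.Prime]

def zeSpec (p : ℕ) [hp : Fact p.Prime] : HypSpec.{u} p where
  Hy G _ R := HasNormalPComplement p ↥(Subgroup.normalizer (ZE p R : Set G))
  transfer := by
    intro G G' _ _ _ _ f hf R h
    apply npc_of_map_injective f hf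
    refine npc_of_le ?_ h
    rw [ZE_map p f hf.injOn]
    exact Subgroup.le_normalizer_map f
  quotient := by
    intro G _ _ T _ hT P hP h
    have hinj := injOn_mk_of_coprime T hT P hP
    have e : Subgroup.normalizer
        ((ZE p (P.map (QuotientGroup.mk' T)) : Subgroup (G ⧸ T)) : Set (G ⧸ T)) =
        (Subgroup.normalizer (ZE p P : Set G)).map (QuotientGroup.mk' T) := by
      rw [ZE_map p _ hinj]
      exact (Cfsg.Agent.Lib.Helper10.map_normalizer_eq_of_coprime p T hT
        (ZE p P) (hP.to_le (ZE_le p P))).symm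
    rw [e]
    exact npc_map _ _ h
  of_local := by
    intro G _ _ R hR hne h
    exact h (ZE p R) (ZE_le p R) (ZE_ne_bot hR hne) (normalizer_le_normalizer_ZE p R)
  top := by
    intro G _ _ P hPn h
    have h1 : Subgroup.normalizer (ZE p P : Set G) = ⊤ := by
      rw [eq_top_iff, ← Subgroup.normalizer_eq_top_iff.mpr hPn]
      exact normalizer_le_normalizer_ZE p P
    exact npc_of_eq_top h1 h

theorem ze_final (hp2 : p ≠ 2) (G : Type u) [Group G] [Finite G] (P : Sylow p G)
    (H : Subgroup G) [H.Normal] (Kb : Subgroup (G ⧸ H)) (c : FinalCfg p G P H Kb)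
    (h : (zeSpec.{u} p).Hy G (P : Subgroup G)) : HasNormalPComplement p G := by
  have hn : (ZE p (P : Subgroup G)).Normal := ze_normal c hp2
  have h1 : Subgroup.normalizer (ZE p (P : Subgroup G) : Set G) = ⊤ :=
    Subgroup.normalizer_eq_top_iff.mpr hn
  exact npc_of_eq_top h1 h

theorem glauberman_thompson_npc_e (hp2 : p ≠ 2) {G : Type u} [Group G] [Finite G] (P : Sylow p G)
    (h : HasNormalPComplement p
      ↥(Subgroup.normalizer (Cfsg.centerThompsonOf p (P : Subgroup G) : Set G))) :
    HasNormalPComplement p G := by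
  rw [centerThompsonOf_eq] at h
  exact generic_npc (zeSpec.{u} p) (fun G _ _ P H _ Kb c h => ze_final hp2 G P H Kb c h) P h

end ZEMain

end Cfsg.Agent.Lib.Helper1.GNPC3
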